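import Mathlib

/-! helper7: localization of bases of differentials: a linear map which is bijective up to an
element of a submonoid localizes to a bijection; differentials of elements forming a basis up to
an element g form a basis of the differentials of the localization away from g. -/

set_option linter.style.haveILetI false
set_option linter.unusedVariables false
set_option linter.unusedSectionVars false
set_option linter.overlappingInstances false

open TensorProduct KaehlerDifferential

namespace Groth.Agent.Helper7.SymTrick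

universe u

section LocGen

variable {B₀ : Type*} [CommRing B₀] (S : Submonoid B₀)
  {M M' Q Q' : Type*} [AddCommGroup M] [AddCommGroup M'] [AddCommGroup Q] [AddCommGroup Q']
  [Module B₀ M] [Module B₀ M'] [Module B₀ Q] [Module B₀ Q']
  (f : M →ₗ[B₀] M') (f' : Q →ₗ[B₀] Q') [IsLocalizedModule S f] [IsLocalizedModule S f']

/-- A linear map which is bijective up to an element of the submonoid localizes to a
bijection. -/
theorem isLocalizedModule_map_bijective (e : M →ₗ[B₀] Q) (g : S)
    (h1 : ∀ q : Q, (g : B₀) • q ∈ LinearMap.range e)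
    (h2 : ∀ m : M, e m = 0 → (g : B₀) • m = 0) :
    Function.Bijective (IsLocalizedModule.map S f f' e) := by
  constructor
  · rw [injective_iff_map_eq_zero]
    intro m' hm'
    obtain ⟨⟨m, s⟩, rfl⟩ := IsLocalizedModule.mk'_surjective S f m'
    simp only [Function.uncurry_apply_pair] at hm' ⊢
    rw [IsLocalizedModule.map_mk', IsLocalizedModule.mk'_eq_zero'] at hm'
    obtain ⟨t, ht⟩ := hm'
    rw [IsLocalizedModule.mk'_eq_zero']
    refine ⟨g * t, ?_⟩
    have h3 : e ((t : B₀) • m) = 0 := by
      rw [map_smul]; exact ht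
    have h4 := h2 _ h3
    rw [Submonoid.smul_def, Submonoid.coe_mul, mul_smul]
    exact h4
  · intro q'
    obtain ⟨⟨q, s⟩, rfl⟩ := IsLocalizedModule.mk'_surjective S f' q'
    simp only [Function.uncurry_apply_pair]
    obtain ⟨m, hm⟩ := h1 q
    refine ⟨IsLocalizedModule.mk' f m (g * s), ?_⟩
    rw [IsLocalizedModule.map_mk', hm]
    have := IsLocalizedModule.mk'_cancel_left (f := f') q g s
    rw [Submonoid.smul_def] at this
    exact this

end LocGen

section LocOmega

variable (R : Type u) [CommRing R] (B₀ : Type u) [CommRing B₀] [Algebra R B₀] (g : B₀)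
  (B : Type u) [CommRing B] [Algebra B₀ B] [Algebra R B] [IsScalarTower R B₀ B]
  [IsLocalization.Away g B] {n : ℕ} (b : Fin n → B₀)

/-- Differentials forming a basis up to `g` form a basis after inverting `g`. -/
theorem exists_basis_away
    (h1 : ∀ ω : Ω[B₀⁄R], g • ω ∈ Submodule.span B₀ (Set.range fun i => D R B₀ (b i)))
    (h2 : ∀ c : Fin n → B₀, ∑ i, c i • D R B₀ (b i) = 0 → ∀ i, g * c i = 0) :
    ∃ bs : Module.Basis (Fin n) B Ω[B⁄R], ∀ i, bs i = D R B (algebraMap B₀ B (b i)) := by
  let e : (Fin n →₀ B₀) →ₗ[B₀] Ω[B₀⁄R] := Finsupp.linearCombination B₀ fun i => D R B₀ (b i)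
  let l₁ : (Fin n →₀ B₀) →ₗ[B₀] (Fin n →₀ B) :=
    Finsupp.mapRange.linearMap (Algebra.linearMap B₀ B)
  let l₂ : Ω[B₀⁄R] →ₗ[B₀] Ω[B⁄R] := KaehlerDifferential.map R R B₀ B
  have hbij : Function.Bijective (IsLocalizedModule.map (Submonoid.powers g) l₁ l₂ e) := by
    refine isLocalizedModule_map_bijective (Submonoid.powers g) l₁ l₂ e
      ⟨g, Submonoid.mem_powers g⟩ ?_ ?_
    · intro ω
      have := h1 ω
      rw [← Finsupp.range_linearCombination] at this
      exact this
    · intro c hc
      have hc' : ∑ i, c i • D R B₀ (b i) = 0 := by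
        rw [← hc]
        simp only [e, Finsupp.linearCombination_apply]
        exact (Finsupp.sum_fintype c (fun i a => a • D R B₀ (b i))
          (fun i => zero_smul B₀ (D R B₀ (b i)))).symm
      ext i
      rw [Finsupp.smul_apply, smul_eq_mul, Finsupp.zero_apply]
      exact h2 (fun i => c i) hc' i
  let e' : (Fin n →₀ B) →ₗ[B] Ω[B⁄R] :=
    IsLocalizedModule.mapExtendScalars (Submonoid.powers g) l₁ l₂ B e
  refine ⟨.ofRepr (LinearEquiv.ofBijective e' hbij).symm, ?_⟩
  intro i
  simp +zetaDelta [IsLocalizedModule.map_linearCombination]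

end LocOmega

end Groth.Agent.Helper7.SymTrick
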