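import Mathlib
import Groth.Agent.Lib.Helper6.SymOmega

/-! helper7: differentials of the symmetric algebra of a module over an algebra: the coordinate
functions x_i + p_i (with (dx_i, p_i) a basis of differentials plus module) have differentials
forming a basis modulo the ideal of the zero section (surjectivity and injectivity). -/

set_option linter.style.haveILetI false
set_option linter.unusedVariables false
set_option linter.unusedSectionVars false
set_option linter.overlappingInstances false

open TensorProduct KaehlerDifferential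

namespace Groth.Agent.Helper7.SymTrick

universe u

section ModA

variable (R A : Type u) [CommRing R] [CommRing A] [Algebra R A]
  (N : Type u) [AddCommGroup N] [Module A N]
  [Algebra R (SymmetricAlgebra A N)] [IsScalarTower R A (SymmetricAlgebra A N)]
  {n : ℕ} (x : Fin n → A) (p : Fin n → N)

/-- The coordinate functions on the symmetric algebra. -/
noncomputable def coord (i : Fin n) : SymmetricAlgebra A N :=
  algebraMap A (SymmetricAlgebra A N) (x i) + SymmetricAlgebra.ι A N (p i)

/-- The ideal of the zero section. -/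
noncomputable def zeroIdeal : Ideal (SymmetricAlgebra A N) :=
  RingHom.ker (SymmetricAlgebra.algebraMapInv (R := A) (M := N))

theorem ι_mem_zeroIdeal (m : N) : SymmetricAlgebra.ι A N m ∈ zeroIdeal A N := by
  rw [zeroIdeal, RingHom.mem_ker]
  exact SymmetricAlgebra.algebraMapInv_ι m

/-- The key identity for linear combinations with coefficients from the base. -/
theorem key_identity (c : Fin n → A) :
    ∑ i, algebraMap A (SymmetricAlgebra A N) (c i) • D R (SymmetricAlgebra A N) (coord A N x p i) =
      KaehlerDifferential.map R R A (SymmetricAlgebra A N) (∑ i, c i • D R A (x i)) +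
        D R (SymmetricAlgebra A N) (SymmetricAlgebra.ι A N (∑ i, c i • p i)) -
        ∑ i, SymmetricAlgebra.ι A N (p i) •
          D R (SymmetricAlgebra A N) (algebraMap A (SymmetricAlgebra A N) (c i)) := by
  rw [map_sum, map_sum, map_sum, ← Finset.sum_add_distrib, ← Finset.sum_sub_distrib]
  refine Finset.sum_congr rfl fun i _ => ?_
  rw [coord, map_add, smul_add, map_smul, KaehlerDifferential.map_D, map_smul,
    Algebra.smul_def (c i) (SymmetricAlgebra.ι A N (p i)), Derivation.leibniz,
    algebraMap_smul]
  abel

variable (hθ : Function.Bijective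
  (fun c : Fin n → A => ((∑ i, c i • D R A (x i), ∑ i, c i • p i) : Ω[A⁄R] × N)))

include hθ in
/-- Surjectivity modulo the ideal of the zero section. -/
theorem surj_mod :
    (⊤ : Submodule (SymmetricAlgebra A N) Ω[SymmetricAlgebra A N⁄R]) ≤
      Submodule.span (SymmetricAlgebra A N)
        (Set.range fun i => D R (SymmetricAlgebra A N) (coord A N x p i)) ⊔
        zeroIdeal A N • ⊤ := by
  set W := Submodule.span (SymmetricAlgebra A N)
        (Set.range fun i => D R (SymmetricAlgebra A N) (coord A N x p i)) ⊔
        zeroIdeal A N • (⊤ : Submodule (SymmetricAlgebra A N) Ω[SymmetricAlgebra A N⁄R]) with hW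
  -- linear combinations with coefficients in the base lie in `W`
  have hlc : ∀ c : Fin n → A, ∑ i, algebraMap A (SymmetricAlgebra A N) (c i) •
      D R (SymmetricAlgebra A N) (coord A N x p i) ∈ W := by
    intro c
    refine Submodule.mem_sup_left (Submodule.sum_mem _ fun i _ => Submodule.smul_mem _ _
      (Submodule.subset_span ⟨i, rfl⟩))
  have hcorr : ∀ c : Fin n → A, ∑ i, SymmetricAlgebra.ι A N (p i) •
      D R (SymmetricAlgebra A N) (algebraMap A (SymmetricAlgebra A N) (c i)) ∈ W := by
    intro c
    refine Submodule.mem_sup_right (Submodule.sum_mem _ fun i _ =>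
      Submodule.smul_mem_smul (ι_mem_zeroIdeal A N (p i)) trivial)
  have hD : ∀ b : SymmetricAlgebra A N, D R (SymmetricAlgebra A N) b ∈ W := by
    intro b
    induction b using SymmetricAlgebra.induction with
    | algebraMap a =>
      obtain ⟨c, hc⟩ := hθ.2 (D R A a, 0)
      simp only [Prod.mk.injEq] at hc
      have h1 := key_identity R A N x p c
      rw [hc.1, hc.2, map_zero, map_zero, add_zero, KaehlerDifferential.map_D] at h1
      have h2 : D R (SymmetricAlgebra A N) (algebraMap A (SymmetricAlgebra A N) a) =
          ∑ i, algebraMap A (SymmetricAlgebra A N) (c i) •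
            D R (SymmetricAlgebra A N) (coord A N x p i) +
          ∑ i, SymmetricAlgebra.ι A N (p i) •
            D R (SymmetricAlgebra A N) (algebraMap A (SymmetricAlgebra A N) (c i)) := by
        rw [h1]; abel
      rw [h2]
      exact W.add_mem (hlc c) (hcorr c)
    | ι m =>
      obtain ⟨c, hc⟩ := hθ.2 (0, m)
      simp only [Prod.mk.injEq] at hc
      have h1 := key_identity R A N x p c
      rw [hc.1, hc.2, map_zero, zero_add] at h1
      have h2 : D R (SymmetricAlgebra A N) (SymmetricAlgebra.ι A N m) =
          ∑ i, algebraMap A (SymmetricAlgebra A N) (c i) •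
            D R (SymmetricAlgebra A N) (coord A N x p i) +
          ∑ i, SymmetricAlgebra.ι A N (p i) •
            D R (SymmetricAlgebra A N) (algebraMap A (SymmetricAlgebra A N) (c i)) := by
        rw [h1]; abel
      rw [h2]
      exact W.add_mem (hlc c) (hcorr c)
    | mul a b ha hb =>
      rw [Derivation.leibniz]
      exact W.add_mem (W.smul_mem _ hb) (W.smul_mem _ ha)
    | add a b ha hb =>
      rw [map_add]
      exact W.add_mem ha hb
  intro ω _
  have hω : ω ∈ Submodule.span (SymmetricAlgebra A N)
      (Set.range (D R (SymmetricAlgebra A N))) := by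
    rw [KaehlerDifferential.span_range_derivation]; trivial
  refine (Submodule.span_le.mpr ?_) hω
  rintro _ ⟨b, rfl⟩
  exact hD b

/-- The base ring as an algebra over the symmetric algebra through the zero section. -/
noncomputable abbrev algZero : Algebra (SymmetricAlgebra A N) A :=
  (SymmetricAlgebra.algebraMapInv (R := A) (M := N)).toRingHom.toAlgebra

/-- The module as a module over the symmetric algebra through the zero section. -/
noncomputable abbrev modZero : Module (SymmetricAlgebra A N) N :=
  Module.compHom N (SymmetricAlgebra.algebraMapInv (R := A) (M := N)).toRingHom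

theorem map_eq_zero_of_mem_smul {Q T : Type*} [AddCommGroup Q] [AddCommGroup T]
    {B : Type*} [CommRing B] [Module B Q] [Module B T] (𝔞 : Ideal B)
    (hT : ∀ a ∈ 𝔞, ∀ t : T, a • t = 0) (Λ : Q →ₗ[B] T) {ω : Q}
    (hω : ω ∈ 𝔞 • (⊤ : Submodule B Q)) : Λ ω = 0 := by
  refine Submodule.smul_induction_on hω (fun a ha q _ => ?_) (fun x y hx hy => ?_)
  · rw [map_smul]; exact hT a ha _
  · rw [map_add, hx, hy, add_zero]

include hθ in
/-- Injectivity modulo the ideal of the zero section. -/
theorem inj_mod (c : Fin n → SymmetricAlgebra A N)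
    (hc : ∑ i, c i • D R (SymmetricAlgebra A N) (coord A N x p i) ∈
      zeroIdeal A N • (⊤ : Submodule (SymmetricAlgebra A N) Ω[SymmetricAlgebra A N⁄R])) :
    ∀ i, c i ∈ zeroIdeal A N := by
  letI := algZero A N
  letI := modZero A N
  have hρ : ∀ b : SymmetricAlgebra A N, algebraMap (SymmetricAlgebra A N) A b =
      SymmetricAlgebra.algebraMapInv b := fun b => rfl
  have hρa : ∀ a : A, SymmetricAlgebra.algebraMapInv (algebraMap A (SymmetricAlgebra A N) a) = a :=
    SymmetricAlgebra.algebraMap_leftInverse N
  haveI : IsScalarTower R (SymmetricAlgebra A N) A := IsScalarTower.of_algebraMap_eq (fun r => by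
    rw [hρ, IsScalarTower.algebraMap_apply R A (SymmetricAlgebra A N), hρa])
  haveI : IsScalarTower (SymmetricAlgebra A N) A N := ⟨fun b a m => by
    show (SymmetricAlgebra.algebraMapInv b * a) • m = SymmetricAlgebra.algebraMapInv b • (a • m)
    rw [mul_smul]⟩
  haveI : IsScalarTower A (SymmetricAlgebra A N) N := ⟨fun a b m => by
    show SymmetricAlgebra.algebraMapInv (a • b) • m = a • (SymmetricAlgebra.algebraMapInv b • m)
    rw [map_smul, smul_assoc]⟩
  -- the two projections
  let Λ₁ : Ω[SymmetricAlgebra A N⁄R] →ₗ[SymmetricAlgebra A N] Ω[A⁄R] :=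
    KaehlerDifferential.map R R (SymmetricAlgebra A N) A
  let Λ₂ : Ω[SymmetricAlgebra A N⁄R] →ₗ[SymmetricAlgebra A N] N :=
    LinearMap.liftBaseChange (SymmetricAlgebra A N) (LinearMap.id : N →ₗ[A] N) ∘ₗ
      (Groth.Agent.Helper6.SymOmega.der A N).liftKaehlerDifferential ∘ₗ
      KaehlerDifferential.map R A (SymmetricAlgebra A N) (SymmetricAlgebra A N)
  have hz : ∀ a ∈ zeroIdeal A N, algebraMap (SymmetricAlgebra A N) A a = 0 := fun a ha => ha
  have h1 : Λ₁ (∑ i, c i • D R (SymmetricAlgebra A N) (coord A N x p i)) = 0 :=
    map_eq_zero_of_mem_smul (zeroIdeal A N) (fun a ha t => by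
      rw [← algebraMap_smul A a t, hz a ha, zero_smul]) Λ₁ hc
  have h2 : Λ₂ (∑ i, c i • D R (SymmetricAlgebra A N) (coord A N x p i)) = 0 :=
    map_eq_zero_of_mem_smul (zeroIdeal A N) (fun a ha t => by
      rw [← algebraMap_smul A a t, hz a ha, zero_smul]) Λ₂ hc
  have hΛ₁ : ∀ i, Λ₁ (D R (SymmetricAlgebra A N) (coord A N x p i)) = D R A (x i) := by
    intro i
    show KaehlerDifferential.map R R (SymmetricAlgebra A N) A _ = _
    rw [KaehlerDifferential.map_D, hρ, coord, map_add, hρa, SymmetricAlgebra.algebraMapInv_ι,
      add_zero]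
  have hΛ₂ : ∀ i, Λ₂ (D R (SymmetricAlgebra A N) (coord A N x p i)) = p i := by
    intro i
    simp only [Λ₂, LinearMap.comp_apply]
    rw [KaehlerDifferential.map_D, Algebra.algebraMap_self, RingHom.id_apply,
      Derivation.liftKaehlerDifferential_comp_D, coord, map_add, Derivation.map_algebraMap,
      zero_add, Groth.Agent.Helper6.SymOmega.der_ι, LinearMap.liftBaseChange_tmul,
      LinearMap.id_apply, one_smul]
  rw [map_sum] at h1 h2
  simp only [map_smul, hΛ₁, hΛ₂] at h1 h2
  have h3 : (fun c : Fin n → A => ((∑ i, c i • D R A (x i), ∑ i, c i • p i) : Ω[A⁄R] × N))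
      (fun i => SymmetricAlgebra.algebraMapInv (c i)) =
      (fun c : Fin n → A => ((∑ i, c i • D R A (x i), ∑ i, c i • p i) : Ω[A⁄R] × N)) 0 := by
    simp only [Pi.zero_apply, zero_smul, Finset.sum_const_zero, Prod.mk.injEq]
    refine ⟨?_, ?_⟩
    · rw [← h1]
      refine Finset.sum_congr rfl fun i _ => ?_
      rw [← hρ, algebraMap_smul]
    · rw [← h2]
      refine Finset.sum_congr rfl fun i _ => ?_
      rw [← hρ, algebraMap_smul]
  have h4 := hθ.1 h3
  intro i
  have := congrFun h4 i
  exact this

end ModA

end Groth.Agent.Helper7.SymTrick
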