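import Mathlib

/-! helper7: a Nakayama type statement: vectors of a finite projective module forming a basis
modulo an ideal form a basis after inverting an element congruent to one modulo the ideal
(explicit form: an element g with g Q inside the span and g killing all relations). -/

set_option linter.style.haveILetI false
set_option linter.unusedVariables false
set_option linter.unusedSectionVars false
set_option linter.overlappingInstances false

open TensorProduct

namespace Groth.Agent.Helper7.SymTrick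

universe u

section Nak

variable {B : Type u} [CommRing B] (𝔞 : Ideal B) {Q : Type u} [AddCommGroup Q] [Module B Q]
  [Module.Finite B Q] [Module.Projective B Q] {n : ℕ} (v : Fin n → Q)

/-- A family of vectors of a finite projective module which is a basis modulo an ideal `𝔞`
is a basis after inverting some element congruent to one modulo `𝔞`. -/
theorem exists_smul_mem_span_and_smul_eq_zero
    (hsurj : (⊤ : Submodule B Q) ≤ Submodule.span B (Set.range v) ⊔ 𝔞 • ⊤)
    (hinj : ∀ c : Fin n → B, ∑ i, c i • v i ∈ 𝔞 • (⊤ : Submodule B Q) → ∀ i, c i ∈ 𝔞) :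
    ∃ g : B, g - 1 ∈ 𝔞 ∧ (∀ q : Q, g • q ∈ Submodule.span B (Set.range v)) ∧
      ∀ c : Fin n → B, ∑ i, c i • v i = 0 → ∀ i, g * c i = 0 := by
  classical
  -- step A: Nakayama
  obtain ⟨g₂, hg₂, hg₂'⟩ := Submodule.exists_sub_one_mem_and_smul_le_of_fg_of_le_sup
    (I := 𝔞) (N := Submodule.span B (Set.range v)) (N' := ⊤) (P := ⊤)
    (Module.finite_def.mp inferInstance) le_rfl hsurj
  have hA : ∀ q : Q, g₂ • q ∈ Submodule.span B (Set.range v) := fun q =>
    hg₂' (Submodule.smul_mem_pointwise_smul q g₂ ⊤ trivial)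
  -- an approximate inverse
  let Ψ : (Fin n → B) →ₗ[B] Q := Fintype.linearCombination B v
  have hΨ : ∀ c, Ψ c = ∑ i, c i • v i := fun c => Fintype.linearCombination_apply B v c
  let Pc : ((Fin n → B) × (𝔞 • (⊤ : Submodule B Q) : Submodule B Q)) →ₗ[B] Q :=
    Ψ.coprod (Submodule.subtype _)
  have hPc : Function.Surjective Pc := by
    intro q
    have hq : q ∈ Submodule.span B (Set.range v) ⊔ 𝔞 • ⊤ := hsurj trivial
    obtain ⟨y, hy, z, hz, rfl⟩ := Submodule.mem_sup.mp hq
    rw [← Fintype.range_linearCombination B v] at hy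
    obtain ⟨c, rfl⟩ := hy
    exact ⟨(c, ⟨z, hz⟩), by simp [Pc, Ψ]⟩
  obtain ⟨s, hs⟩ := Module.projective_lifting_property Pc LinearMap.id hPc
  let Φ : Q →ₗ[B] (Fin n → B) := LinearMap.fst B _ _ ∘ₗ s
  have hΦ : ∀ q, q - Ψ (Φ q) ∈ 𝔞 • (⊤ : Submodule B Q) := by
    intro q
    have h1 : Pc (s q) = q := LinearMap.congr_fun hs q
    have h2 : Pc (s q) = Ψ (Φ q) + ((s q).2 : Q) := by
      simp [Pc, Φ, LinearMap.coprod_apply]
    rw [h2] at h1
    have : q - Ψ (Φ q) = ((s q).2 : Q) := sub_eq_of_eq_add' h1.symm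
    rw [this]
    exact (s q).2.2
  let E : (Fin n → B) →ₗ[B] (Fin n → B) := Φ ∘ₗ Ψ
  have hE : ∀ c i, (E c - c) i ∈ 𝔞 := by
    intro c
    apply hinj
    rw [← hΨ, map_sub]
    have := hΦ (Ψ c)
    have h3 : Ψ (E c) - Ψ c = -(Ψ c - Ψ (Φ (Ψ c))) := by
      simp [E]
    rw [h3]
    exact Submodule.neg_mem _ this
  let M : Matrix (Fin n) (Fin n) B := LinearMap.toMatrix' E
  have hM : ∀ c, M.mulVec c = E c := fun c => by
    rw [← Matrix.toLin'_apply, Matrix.toLin'_toMatrix']
  -- the determinant is congruent to one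
  have hdet : M.det - 1 ∈ 𝔞 := by
    rw [← Ideal.Quotient.eq_zero_iff_mem, map_sub, map_one, sub_eq_zero,
      RingHom.map_det]
    have hmap : (Ideal.Quotient.mk 𝔞).mapMatrix M = 1 := by
      ext i j
      rw [RingHom.mapMatrix_apply, Matrix.map_apply, Matrix.one_apply]
      have h4 : M i j = E (Pi.single j 1) i := by
        rw [← hM, Matrix.mulVec_single_one]
        rfl
      have h5 := hE (Pi.single j 1) i
      rw [Pi.sub_apply, ← h4, ← Ideal.Quotient.eq_zero_iff_mem, map_sub, sub_eq_zero] at h5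
      rw [h5, Pi.single_apply]
      split_ifs with h <;> simp
    rw [hmap, Matrix.det_one]
  refine ⟨M.det * g₂, ?_, ?_, ?_⟩
  · have : M.det * g₂ - 1 = (M.det - 1) * g₂ + (g₂ - 1) := by ring
    rw [this]
    exact 𝔞.add_mem (𝔞.mul_mem_right _ hdet) hg₂
  · intro q
    rw [mul_smul]
    exact Submodule.smul_mem _ _ (hA q)
  · intro c hc i
    have h6 : E c = 0 := by
      show Φ (Ψ c) = 0
      rw [hΨ, hc, map_zero]
    have h7 : M.det • c = 0 := by
      have := congrArg (fun N : Matrix (Fin n) (Fin n) B => N.mulVec c) (Matrix.adjugate_mul M)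
      simp only [← Matrix.mulVec_mulVec, hM, h6, Matrix.mulVec_zero, Matrix.smul_mulVec,
        Matrix.one_mulVec] at this
      exact this.symm
    have h8 := congrFun h7 i
    rw [Pi.smul_apply, smul_eq_mul, Pi.zero_apply] at h8
    rw [mul_comm M.det, mul_assoc, h8, mul_zero]

end Nak

end Groth.Agent.Helper7.SymTrick
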