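import Mathlib
import Groth.Agent.Lib.Helper7.FPRetract

/-! helper7: the symmetric algebra of a finite projective module is smooth (formally smooth by
the projective lifting property, finitely presented as a retract of a polynomial ring). -/

set_option linter.style.haveILetI false
set_option linter.unusedVariables false
set_option linter.unusedSectionVars false
set_option linter.overlappingInstances false

open TensorProduct

namespace Groth.Agent.Helper7.SymTrick

universe u

section

variable (A : Type u) [CommRing A] (N : Type u) [AddCommGroup N] [Module A N]

/-- The symmetric algebra of a projective module is formally smooth. -/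
theorem formallySmooth_symmetricAlgebra [Module.Projective A N] :
    Algebra.FormallySmooth A (SymmetricAlgebra A N) := by
  refine Algebra.FormallySmooth.of_comp_surjective ?_
  intro C _ _ I hI g
  have hsurj : Function.Surjective (Ideal.Quotient.mkₐ A I).toLinearMap :=
    Ideal.Quotient.mk_surjective
  obtain ⟨h, hh⟩ := Module.projective_lifting_property (Ideal.Quotient.mkₐ A I).toLinearMap
    (g.toLinearMap ∘ₗ SymmetricAlgebra.ι A N) hsurj
  refine ⟨SymmetricAlgebra.lift h, ?_⟩
  apply SymmetricAlgebra.algHom_ext
  ext m
  have := LinearMap.congr_fun hh m
  simpa using this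

/-- The symmetric algebra of a finite projective module is finitely presented. -/
theorem finitePresentation_symmetricAlgebra [Module.Finite A N] [Module.Projective A N] :
    Algebra.FinitePresentation A (SymmetricAlgebra A N) := by
  obtain ⟨n, f, g, -, -, hfg⟩ := Module.Finite.exists_comp_eq_id_of_projective A N
  haveI : Algebra.FinitePresentation A (SymmetricAlgebra A (Fin n → A)) :=
    Algebra.FinitePresentation.equiv
      (SymmetricAlgebra.equivMvPolynomial (Pi.basisFun A (Fin n))).symm
  refine Groth.Agent.Helper7.FPRetract.finitePresentation_of_retract
    (C := SymmetricAlgebra A (Fin n → A))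
    (SymmetricAlgebra.lift (SymmetricAlgebra.ι A N ∘ₗ f))
    (SymmetricAlgebra.lift (SymmetricAlgebra.ι A (Fin n → A) ∘ₗ g)) ?_
  intro b
  have : ((SymmetricAlgebra.lift (SymmetricAlgebra.ι A N ∘ₗ f)).comp
      (SymmetricAlgebra.lift (SymmetricAlgebra.ι A (Fin n → A) ∘ₗ g))) =
      AlgHom.id A (SymmetricAlgebra A N) := by
    apply SymmetricAlgebra.algHom_ext
    ext m
    have h1 := LinearMap.congr_fun hfg m
    simp only [LinearMap.coe_comp, Function.comp_apply, LinearMap.id_coe, id_eq] at h1
    simp [h1]
  exact AlgHom.congr_fun this b

theorem smooth_symmetricAlgebra [Module.Finite A N] [Module.Projective A N] :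
    Algebra.Smooth A (SymmetricAlgebra A N) :=
  ⟨formallySmooth_symmetricAlgebra A N, finitePresentation_symmetricAlgebra A N⟩

end

end Groth.Agent.Helper7.SymTrick
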