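import Mathlib
import Groth.Agent.Lib.Helper7.SymTrick.SymSmooth
import Groth.Agent.Lib.Helper7.SymTrick.Nak
import Groth.Agent.Lib.Helper7.SymTrick.ModA
import Groth.Agent.Lib.Helper7.SymTrick.Loc

/-! helper7: the symmetric algebra trick (S2025): a smooth algebra A over R is a retract of a
smooth A-algebra B (a principal localization of the symmetric algebra of the conormal module)
whose differentials over R have a basis of exact differentials; hence B is standard smooth. -/

set_option linter.style.haveILetI false
set_option linter.unusedVariables false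
set_option linter.unusedSectionVars false
set_option linter.overlappingInstances false

open TensorProduct KaehlerDifferential

namespace Groth.Agent.Helper7.SymTrick

universe u

/-- A smooth algebra admits a finite projective module `N` and coordinates `(x_i, p_i)` such that
`(dx_i, p_i)` is a basis of `Ω ⊕ N`. -/
theorem exists_split (R A : Type u) [CommRing R] [CommRing A] [Algebra R A]
    [Algebra.Smooth R A] :
    ∃ (N : Type u) (_ : AddCommGroup N) (_ : Module A N) (_ : Module.Finite A N)
      (_ : Module.Projective A N) (n : ℕ) (x : Fin n → A) (p : Fin n → N),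
      Function.Bijective
        (fun c : Fin n → A => ((∑ i, c i • D R A (x i), ∑ i, c i • p i) : Ω[A⁄R] × N)) := by
  haveI : Algebra.FinitePresentation R A := Algebra.Smooth.finitePresentation
  haveI : Algebra.FormallySmooth R A := Algebra.Smooth.formallySmooth
  obtain ⟨n, ⟨P⟩⟩ := (Algebra.FiniteType.iff_exists_generators (R := R) (S := A)).mp inferInstance
  haveI : Algebra.FormallySmooth R P.toExtension.Ring :=
    inferInstanceAs (Algebra.FormallySmooth R (MvPolynomial (Fin n) R))
  haveI : Module.Finite A P.toExtension.CotangentSpace :=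
    Module.Finite.of_basis P.cotangentSpaceBasis
  have hinj : Function.Injective P.toExtension.cotangentComplex :=
    (Algebra.Extension.cotangentComplex_injective_iff P.toExtension).mpr inferInstance
  have hsurj := P.toExtension.toKaehler_surjective
  have hex := P.toExtension.exact_cotangentComplex_toKaehler
  obtain ⟨l, hl⟩ := Module.projective_lifting_property P.toExtension.toKaehler LinearMap.id hsurj
  obtain ⟨e, he1, he2⟩ := ((hex.split_tfae').out 0 2 rfl rfl).mp ⟨hinj, l, hl⟩
  have hfin : Module.Finite A P.toExtension.Cotangent :=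
    Module.Finite.of_surjective (LinearMap.fst A _ _ ∘ₗ e.toLinearMap)
      (Prod.fst_surjective.comp e.surjective)
  have hproj : Module.Projective A P.toExtension.Cotangent :=
    Module.Projective.of_split (e.symm.toLinearMap ∘ₗ LinearMap.inl A _ _)
      (LinearMap.fst A _ _ ∘ₗ e.toLinearMap) (by ext m; simp)
  refine ⟨P.toExtension.Cotangent, inferInstance, inferInstance, hfin, hproj, n, P.val,
    fun i => (e (P.cotangentSpaceBasis i)).1, ?_⟩
  have h2 : ∀ i, (e (P.cotangentSpaceBasis i)).2 = D R A (P.val i) := by
    intro i
    have := LinearMap.congr_fun he2 (P.cotangentSpaceBasis i)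
    rw [Algebra.Generators.toKaehler_cotangentSpaceBasis] at this
    exact this.symm
  have hfun : (fun c : Fin n → A => ((∑ i, c i • D R A (P.val i),
      ∑ i, c i • (e (P.cotangentSpaceBasis i)).1) : Ω[A⁄R] × P.toExtension.Cotangent)) =
      Prod.swap ∘ e ∘ P.cotangentSpaceBasis.equivFun.symm := by
    funext c
    simp only [Function.comp_apply, Module.Basis.equivFun_symm_apply, map_sum, map_smul]
    ext
    · simp [Prod.snd_sum, h2]
    · simp [Prod.fst_sum]
  rw [hfun]
  exact (Prod.swap_bijective.comp e.bijective).comp P.cotangentSpaceBasis.equivFun.symm.bijective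


/-- Key lemma: a smooth algebra `A` over `R` admits a smooth `A`-algebra `B` with a retraction
onto `A` such that the differentials of `B` over `R` have a basis of exact differentials. -/
theorem exists_smooth_retract_basis (R A : Type u) [CommRing R] [CommRing A] [Algebra R A]
    [Algebra.Smooth R A] :
    ∃ (B : Type u) (_ : CommRing B) (_ : Algebra R B) (_ : Algebra A B)
      (_ : IsScalarTower R A B),
      Algebra.Smooth A B ∧ Nonempty (B →ₐ[A] A) ∧
      ∃ (n : ℕ) (b : Fin n → B) (bs : Module.Basis (Fin n) B Ω[B⁄R]),
        ∀ i, bs i = D R B (b i) := by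
  obtain ⟨N, _, _, hfin, hproj, n, x, p, hθ⟩ := exists_split R A
  letI : Algebra R (SymmetricAlgebra A N) :=
    ((algebraMap A (SymmetricAlgebra A N)).comp (algebraMap R A)).toAlgebra
  haveI : IsScalarTower R A (SymmetricAlgebra A N) := IsScalarTower.of_algebraMap_eq (fun _ => rfl)
  haveI hsmA : Algebra.Smooth A (SymmetricAlgebra A N) := smooth_symmetricAlgebra A N
  haveI hsmR : Algebra.Smooth R (SymmetricAlgebra A N) :=
    Algebra.Smooth.comp R A (SymmetricAlgebra A N)
  haveI : Algebra.FormallySmooth R (SymmetricAlgebra A N) := Algebra.Smooth.formallySmooth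
  haveI : Algebra.FinitePresentation R (SymmetricAlgebra A N) := Algebra.Smooth.finitePresentation
  haveI : Module.Finite (SymmetricAlgebra A N) Ω[SymmetricAlgebra A N⁄R] := inferInstance
  haveI : Module.Projective (SymmetricAlgebra A N) Ω[SymmetricAlgebra A N⁄R] := inferInstance
  obtain ⟨g, hg, h1, h2⟩ := exists_smul_mem_span_and_smul_eq_zero (zeroIdeal A N)
    (fun i => D R (SymmetricAlgebra A N) (coord A N x p i))
    (surj_mod R A N x p hθ) (inj_mod R A N x p hθ)
  have hρg : SymmetricAlgebra.algebraMapInv (R := A) (M := N) g = 1 := by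
    have : SymmetricAlgebra.algebraMapInv (R := A) (M := N) (g - 1) = 0 := hg
    rwa [map_sub, map_one, sub_eq_zero] at this
  obtain ⟨bs, hbs⟩ := exists_basis_away R (SymmetricAlgebra A N) g (Localization.Away g)
    (coord A N x p) h1 h2
  haveI : IsScalarTower R A (Localization.Away g) := IsScalarTower.of_algebraMap_eq (fun r => by
    rw [IsScalarTower.algebraMap_apply R (SymmetricAlgebra A N) (Localization.Away g),
      IsScalarTower.algebraMap_apply R A (SymmetricAlgebra A N),
      ← IsScalarTower.algebraMap_apply A (SymmetricAlgebra A N) (Localization.Away g)])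
  haveI : Algebra.Smooth (SymmetricAlgebra A N) (Localization.Away g) :=
    Algebra.Smooth.of_isLocalization_Away g
  refine ⟨Localization.Away g, inferInstance, inferInstance, inferInstance, inferInstance,
    Algebra.Smooth.comp A (SymmetricAlgebra A N) (Localization.Away g), ?_,
    n, fun i => algebraMap (SymmetricAlgebra A N) (Localization.Away g) (coord A N x p i), bs, hbs⟩
  refine ⟨IsLocalization.liftAlgHom (M := Submonoid.powers g)
    (f := (SymmetricAlgebra.algebraMapInv : SymmetricAlgebra A N →ₐ[A] A)) ?_⟩
  rintro ⟨_, k, rfl⟩
  show IsUnit (SymmetricAlgebra.algebraMapInv (R := A) (M := N) (g ^ k))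
  rw [map_pow, hρg, one_pow]
  exact isUnit_one


/-- A smooth algebra is a retract of a smooth algebra over it which is standard smooth over the
base. -/
theorem exists_smooth_retract_isStandardSmooth (R A : Type u) [CommRing R] [CommRing A]
    [Algebra R A] [Algebra.Smooth R A] :
    ∃ (B : Type u) (_ : CommRing B) (_ : Algebra R B) (_ : Algebra A B)
      (_ : IsScalarTower R A B),
      Algebra.Smooth A B ∧ Nonempty (B →ₐ[A] A) ∧ Algebra.IsStandardSmooth R B := by
  obtain ⟨B, _, _, _, _, hsm, hret, n, b, bs, hbs⟩ := exists_smooth_retract_basis R A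
  haveI := hsm
  haveI : Algebra.Smooth R B := Algebra.Smooth.comp R A B
  haveI : Algebra.FinitePresentation R B := Algebra.Smooth.finitePresentation
  haveI : Algebra.FormallySmooth R B := Algebra.Smooth.formallySmooth
  refine ⟨B, inferInstance, inferInstance, inferInstance, inferInstance, hsm, hret,
    Algebra.IsStandardSmooth.of_basis_kaehlerDifferential bs ?_⟩
  rintro _ ⟨i, rfl⟩
  exact ⟨b i, (hbs i).symm⟩

end Groth.Agent.Helper7.SymTrick
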