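import Mathlib
import Groth.Agent.Lib.Helper7.SymTrick.Main
import Groth.Agent.Lib.Helper7.Hensel.EtaleLift
import Groth.Agent.Lib.Helper6.EtaleCoord

/-! helper7: lifting maps from smooth algebras along henselian pairs (S0536): via the symmetric
algebra trick a smooth algebra is a retract of an algebra etale over a polynomial ring, and
sections of etale algebras lift along henselian pairs. -/

set_option linter.style.haveILetI false
set_option linter.unusedVariables false
set_option linter.unusedSectionVars false
set_option linter.overlappingInstances false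

open TensorProduct KaehlerDifferential

namespace Groth.Agent.Helper7.SymTrick

universe u

/-- An algebra which is smooth over `R` and whose differentials have a basis of exact
differentials is etale over the polynomial ring on the coordinates. -/
theorem etale_of_basis (R B : Type u) [CommRing R] [CommRing B] [Algebra R B]
    [Algebra.Smooth R B] {n : ℕ} (b : Fin n → B) (bs : Module.Basis (Fin n) B Ω[B⁄R])
    (hbs : ∀ i, bs i = D R B (b i))
    [Algebra (MvPolynomial (Fin n) R) B] [IsScalarTower R (MvPolynomial (Fin n) R) B]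
    (hX : ∀ i, algebraMap (MvPolynomial (Fin n) R) B (MvPolynomial.X i) = b i) :
    Algebra.Etale (MvPolynomial (Fin n) R) B := by
  haveI : Algebra.FormallySmooth R B := Algebra.Smooth.formallySmooth
  haveI : Algebra.FinitePresentation R B := Algebra.Smooth.finitePresentation
  have hfun : (fun i : Fin n => D R B (algebraMap (MvPolynomial (Fin n) R) B (MvPolynomial.X i))) =
      bs := by
    funext i
    rw [hX, hbs]
  have hb : Function.Bijective (Finsupp.linearCombination B
      (fun i : Fin n => D R B (algebraMap (MvPolynomial (Fin n) R) B (MvPolynomial.X i)))) := by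
    rw [hfun, ← Module.Basis.coe_repr_symm]
    exact bs.repr.symm.bijective
  haveI : Algebra.FormallyEtale (MvPolynomial (Fin n) R) B :=
    Groth.Agent.Lib.Helper6.EtaleCoord.formallyEtale_of_basis hb
  haveI : Algebra.FinitePresentation (MvPolynomial (Fin n) R) B :=
    Algebra.FinitePresentation.of_restrict_scalars_finitePresentation R _ _
  exact ⟨inferInstance, inferInstance⟩


/-- Lifting of maps from smooth algebras along henselian pairs. -/
theorem exists_lift_of_smooth (R S A : Type u) [CommRing R] [CommRing S] [Algebra R S]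
    [Algebra.Smooth R S] [CommRing A] [Algebra R A] (I : Ideal A)
    (hG : Groth.Agent.Helper7.Hensel.Gabber A I) (σ : S →ₐ[R] A ⧸ I) :
    ∃ τ : S →ₐ[R] A, (Ideal.Quotient.mkₐ R I).comp τ = σ := by
  obtain ⟨B, _, _, _, _, hsm, ⟨ρ⟩, n, b, bs, hbs⟩ := exists_smooth_retract_basis R S
  haveI := hsm
  haveI : Algebra.Smooth R B := Algebra.Smooth.comp R S B
  letI algPB : Algebra (MvPolynomial (Fin n) R) B := (MvPolynomial.aeval b).toRingHom.toAlgebra
  haveI : IsScalarTower R (MvPolynomial (Fin n) R) B :=
    IsScalarTower.of_algebraMap_eq' (MvPolynomial.aeval b).comp_algebraMap.symm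
  have hX : ∀ i, algebraMap (MvPolynomial (Fin n) R) B (MvPolynomial.X i) = b i :=
    fun i => MvPolynomial.aeval_X b i
  haveI : Algebra.Etale (MvPolynomial (Fin n) R) B := etale_of_basis R B b bs hbs hX
  -- the composite map to the quotient
  let σ' : B →ₐ[R] A ⧸ I := σ.comp (ρ.restrictScalars R)
  have hlift : ∀ i, ∃ a : A, Ideal.Quotient.mk I a = σ' (b i) :=
    fun i => Ideal.Quotient.mk_surjective _
  choose a ha using hlift
  letI algPA : Algebra (MvPolynomial (Fin n) R) A := (MvPolynomial.aeval a).toRingHom.toAlgebra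
  haveI : IsScalarTower R (MvPolynomial (Fin n) R) A :=
    IsScalarTower.of_algebraMap_eq' (MvPolynomial.aeval a).comp_algebraMap.symm
  have hXA : ∀ i, algebraMap (MvPolynomial (Fin n) R) A (MvPolynomial.X i) = a i :=
    fun i => MvPolynomial.aeval_X a i
  -- `σ'` is linear over the polynomial ring
  have hcomm : ∀ f : MvPolynomial (Fin n) R,
      σ' (algebraMap (MvPolynomial (Fin n) R) B f) =
        algebraMap (MvPolynomial (Fin n) R) (A ⧸ I) f := by
    intro f
    have : (σ'.comp (IsScalarTower.toAlgHom R (MvPolynomial (Fin n) R) B)) =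
        (IsScalarTower.toAlgHom R (MvPolynomial (Fin n) R) (A ⧸ I)) := by
      apply MvPolynomial.algHom_ext
      intro i
      simp only [AlgHom.comp_apply, IsScalarTower.coe_toAlgHom', hX]
      rw [← ha i, IsScalarTower.algebraMap_apply (MvPolynomial (Fin n) R) A (A ⧸ I), hXA]
      rfl
    exact AlgHom.congr_fun this f
  let σP : B →ₐ[MvPolynomial (Fin n) R] A ⧸ I := { σ'.toRingHom with commutes' := hcomm }
  let s : A ⊗[MvPolynomial (Fin n) R] B →ₐ[A] A ⧸ I :=
    Algebra.TensorProduct.lift (Algebra.ofId A (A ⧸ I)) σP (fun _ _ => Commute.all _ _)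
  obtain ⟨τ, hτ⟩ := hG.exists_lift_of_etale (A ⊗[MvPolynomial (Fin n) R] B) s
  let τB : B →ₐ[R] A := (τ.restrictScalars R).comp
    ((Algebra.TensorProduct.includeRight : B →ₐ[MvPolynomial (Fin n) R]
      A ⊗[MvPolynomial (Fin n) R] B).restrictScalars R)
  refine ⟨τB.comp (IsScalarTower.toAlgHom R S B), ?_⟩
  ext x
  have h1 := AlgHom.congr_fun hτ ((1 : A) ⊗ₜ[MvPolynomial (Fin n) R] (algebraMap S B x))
  simp only [AlgHom.comp_apply, Ideal.Quotient.mkₐ_eq_mk] at h1
  simp only [AlgHom.comp_apply, Ideal.Quotient.mkₐ_eq_mk, IsScalarTower.coe_toAlgHom', τB,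
    AlgHom.restrictScalars_apply, Algebra.TensorProduct.includeRight_apply]
  rw [h1]
  simp only [s, Algebra.TensorProduct.lift_tmul, map_one, one_mul]
  show σ (ρ (algebraMap S B x)) = σ x
  rw [AlgHom.commutes]
  rfl

end Groth.Agent.Helper7.SymTrick
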