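import Mathlib
import Groth.Agent.Lib.Helper7.SymTrick.Lift

/-! helper7: etale neighbourhood lifting for smooth algebras (S2043): the kernel of a section of
an unramified algebra is generated by an idempotent; an etale algebra with a section over V(I)
has a principal localization which is an etale neighbourhood of V(I); maps from smooth algebras
to A/I lift to such a neighbourhood. -/

set_option linter.style.haveILetI false
set_option linter.unusedVariables false
set_option linter.unusedSectionVars false
set_option linter.overlappingInstances false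

open TensorProduct KaehlerDifferential

namespace Groth.Agent.Helper7.SymTrick

universe u

/-- The kernel of a section of an unramified algebra is generated by an idempotent. -/
theorem ker_section_eq_span_idempotent (k D : Type u) [CommRing k] [CommRing D] [Algebra k D]
    [Algebra.EssFiniteType k D] [Algebra.FormallyUnramified k D] (t : D →ₐ[k] k) :
    ∃ ε : D, IsIdempotentElem ε ∧ RingHom.ker t = Ideal.span {ε} := by
  obtain ⟨e, he, hsp⟩ : ∃ e, IsIdempotentElem e ∧ KaehlerDifferential.ideal k D = D ⊗[k] D ∙ e :=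
    (Ideal.isIdempotentElem_iff_of_fg _ (KaehlerDifferential.ideal_fg k D)).mp <|
      (Ideal.cotangent_subsingleton_iff _).mp <| inferInstanceAs <| Subsingleton Ω[D⁄k]
  let φ : D ⊗[k] D →ₐ[k] D :=
    Algebra.TensorProduct.lift (AlgHom.id k D) ((Algebra.ofId k D).comp t)
      (fun _ _ => Commute.all _ _)
  have hφ : ∀ x y : D, φ (x ⊗ₜ[k] y) = x * algebraMap k D (t y) := fun x y => by
    simp [φ, Algebra.TensorProduct.lift_tmul, Algebra.ofId_apply]
  have hφsurj : Function.Surjective φ := fun x => ⟨x ⊗ₜ[k] 1, by rw [hφ, map_one, map_one, mul_one]⟩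
  have hmap : Ideal.map φ (KaehlerDifferential.ideal k D) = RingHom.ker t := by
    apply le_antisymm
    · rw [← KaehlerDifferential.span_range_eq_ideal, Ideal.map_span, Ideal.span_le]
      rintro _ ⟨_, ⟨d, rfl⟩, rfl⟩
      show φ (1 ⊗ₜ[k] d - d ⊗ₜ[k] 1) ∈ RingHom.ker t
      rw [map_sub, hφ, hφ, map_one, map_one, mul_one, one_mul, RingHom.mem_ker, map_sub,
        AlgHom.commutes, Algebra.algebraMap_self, RingHom.id_apply, sub_self]
    · intro x hx
      have hx' : t x = 0 := hx
      have h1 : φ (x ⊗ₜ[k] 1 - 1 ⊗ₜ[k] x) = x := by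
        rw [map_sub, hφ, hφ, map_one, map_one, mul_one, one_mul, hx', map_zero, sub_zero]
      rw [← h1]
      refine Ideal.mem_map_of_mem _ ?_
      have := KaehlerDifferential.one_smul_sub_smul_one_mem_ideal k x
      rw [← neg_sub]
      exact (KaehlerDifferential.ideal k D).neg_mem this
  refine ⟨φ e, he.map φ, ?_⟩
  rw [← hmap, hsp]
  show Ideal.map φ (Ideal.span {e}) = _
  rw [Ideal.map_span, Set.image_singleton]


section Away

variable (A E : Type u) [CommRing A] [CommRing E] [Algebra A E] [Algebra.Etale A E]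
  (I : Ideal A) (s : E →ₐ[A] A ⧸ I)

/-- An element cutting out the section inside the fibre over `V(I)`. -/
theorem exists_elem_section :
    ∃ h : E, s h = 1 ∧ h * (1 - h) ∈ I.map (algebraMap A E) ∧
      ∀ x : E, s x = 0 → x ∈ I.map (algebraMap A E) ⊔ Ideal.span {1 - h} := by
  haveI : Algebra.FormallyUnramified (A ⧸ I) (E ⧸ I.map (algebraMap A E)) :=
    Algebra.FormallyUnramified.of_equiv
      (Algebra.TensorProduct.quotIdealMapEquivQuotTensor E I).symm
  haveI : Algebra.FiniteType A (E ⧸ I.map (algebraMap A E)) :=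
    Algebra.FiniteType.of_surjective (Ideal.Quotient.mkₐ A _) Ideal.Quotient.mk_surjective
  haveI : Algebra.FiniteType (A ⧸ I) (E ⧸ I.map (algebraMap A E)) :=
    Algebra.FiniteType.of_restrictScalars_finiteType A (A ⧸ I) _
  have hs : ∀ x ∈ I.map (algebraMap A E), s x = 0 := by
    intro x hx
    have : I.map (algebraMap A E) ≤ RingHom.ker s.toRingHom := by
      rw [Ideal.map_le_iff_le_comap]
      intro i hi
      show s (algebraMap A E i) = 0
      rw [AlgHom.commutes]
      exact Ideal.Quotient.eq_zero_iff_mem.mpr hi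
    exact this hx
  let t₀ : E ⧸ I.map (algebraMap A E) →ₐ[A] A ⧸ I := Ideal.Quotient.liftₐ _ s hs
  have ht₀ : ∀ x : E, t₀ (Ideal.Quotient.mk _ x) = s x := fun x => rfl
  let t : E ⧸ I.map (algebraMap A E) →ₐ[A ⧸ I] A ⧸ I :=
    { t₀.toRingHom with
      commutes' := fun a => by
        obtain ⟨a, rfl⟩ := Ideal.Quotient.mk_surjective a
        show t₀ (Ideal.Quotient.mk _ (algebraMap A E a)) = _
        rw [ht₀, AlgHom.commutes]
        rfl }
  have ht : ∀ x : E, t (Ideal.Quotient.mk _ x) = s x := fun x => rfl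
  obtain ⟨ε, hε, hker⟩ := ker_section_eq_span_idempotent (A ⧸ I) (E ⧸ I.map (algebraMap A E)) t
  obtain ⟨h', rfl⟩ := Ideal.Quotient.mk_surjective ε
  have hsh' : s h' = 0 := by
    rw [← ht]
    have : Ideal.Quotient.mk (I.map (algebraMap A E)) h' ∈ RingHom.ker t := by
      rw [hker]; exact Ideal.mem_span_singleton_self _
    exact this
  refine ⟨1 - h', by rw [map_sub, map_one, hsh', sub_zero], ?_, ?_⟩
  · rw [sub_sub_cancel, ← Ideal.Quotient.eq_zero_iff_mem, map_mul, map_sub, map_one]
    have := hε.eq
    rw [sub_mul, one_mul, this, sub_self]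
  · intro x hx
    rw [sub_sub_cancel]
    have h1 : Ideal.Quotient.mk (I.map (algebraMap A E)) x ∈ RingHom.ker t := by
      show t _ = 0
      rw [ht, hx]
    rw [hker, Ideal.mem_span_singleton'] at h1
    obtain ⟨y, hy⟩ := h1
    obtain ⟨y, rfl⟩ := Ideal.Quotient.mk_surjective y
    rw [← map_mul, Ideal.Quotient.eq] at hy
    have h2 : x = (x - y * h') + y * h' := by ring
    rw [h2]
    refine Ideal.add_mem _ (Ideal.mem_sup_left ?_)
      (Ideal.mem_sup_right (Ideal.mul_mem_left _ _ (Ideal.mem_span_singleton_self _)))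
    have := (I.map (algebraMap A E)).neg_mem hy
    rwa [neg_sub] at this

/-- An etale algebra with a section over `V(I)` has a principal localization which is an etale
neighbourhood of `V(I)`. -/
theorem exists_away_bijective :
    ∃ h : E, s h = 1 ∧
      Function.Bijective (algebraMap (A ⧸ I)
        (Localization.Away h ⧸ I.map (algebraMap A (Localization.Away h)))) ∧
      ∀ x : E, Ideal.Quotient.mk (I.map (algebraMap A (Localization.Away h)))
          (algebraMap E (Localization.Away h) x) =
        algebraMap (A ⧸ I) (Localization.Away h ⧸ I.map (algebraMap A (Localization.Away h)))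
          (s x) := by
  obtain ⟨h, hsh, hh, hker⟩ := exists_elem_section A E I s
  refine ⟨h, hsh, ?_⟩
  set A' := Localization.Away h with hA'
  set IA' := I.map (algebraMap A A') with hIA'
  have hmapmap : (I.map (algebraMap A E)).map (algebraMap E A') = IA' := by
    rw [Ideal.map_map, ← IsScalarTower.algebraMap_eq]
  have hunit : IsUnit (algebraMap E A' h) := IsLocalization.Away.algebraMap_isUnit h
  -- `1 - h` dies modulo `I A'`
  have h1h : algebraMap E A' (1 - h) ∈ IA' := by
    have h1 : algebraMap E A' (h * (1 - h)) ∈ IA' := by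
      rw [← hmapmap]; exact Ideal.mem_map_of_mem _ hh
    rw [map_mul] at h1
    exact (Ideal.unit_mul_mem_iff_mem _ hunit).mp h1
  have hkerA' : ∀ x : E, s x = 0 → algebraMap E A' x ∈ IA' := by
    intro x hx
    obtain ⟨y, hy, z, hz, rfl⟩ := Submodule.mem_sup.mp (hker x hx)
    rw [map_add]
    refine IA'.add_mem (by rw [← hmapmap]; exact Ideal.mem_map_of_mem _ hy) ?_
    obtain ⟨w, rfl⟩ := Ideal.mem_span_singleton'.mp hz
    rw [map_mul]
    exact IA'.mul_mem_left _ h1h
  have hcompat : ∀ (x : E) (a : A), s x = Ideal.Quotient.mk I a →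
      algebraMap E A' x - algebraMap A A' a ∈ IA' := by
    intro x a hxa
    have : s (x - algebraMap A E a) = 0 := by
      rw [map_sub, hxa, AlgHom.commutes, sub_eq_zero]; rfl
    have h2 := hkerA' _ this
    rwa [map_sub, ← IsScalarTower.algebraMap_apply] at h2
  have hcompat' : ∀ x : E, Ideal.Quotient.mk IA' (algebraMap E A' x) =
      algebraMap (A ⧸ I) (A' ⧸ IA') (s x) := by
    intro x
    obtain ⟨a, ha⟩ := Ideal.Quotient.mk_surjective (s x)
    rw [← ha]
    show _ = Ideal.Quotient.mk IA' (algebraMap A A' a)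
    rw [Ideal.Quotient.eq]
    exact hcompat x a ha.symm
  refine ⟨⟨?_, ?_⟩, hcompat'⟩
  · -- injectivity through the extended section
    let s' : A' →ₐ[A] A ⧸ I := IsLocalization.liftAlgHom (M := Submonoid.powers h) (f := s) (by
      rintro ⟨_, k, rfl⟩
      show IsUnit (s (h ^ k))
      rw [map_pow, hsh, one_pow]
      exact isUnit_one)
    have hs'IA' : ∀ y ∈ IA', s' y = 0 := by
      have : IA' ≤ RingHom.ker s'.toRingHom := by
        rw [hIA', Ideal.map_le_iff_le_comap]
        intro i hi
        show s' (algebraMap A A' i) = 0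
        rw [AlgHom.commutes]
        exact Ideal.Quotient.eq_zero_iff_mem.mpr hi
      exact fun y hy => this hy
    rw [injective_iff_map_eq_zero]
    intro a ha
    obtain ⟨a, rfl⟩ := Ideal.Quotient.mk_surjective a
    have h3 : Ideal.Quotient.mk IA' (algebraMap A A' a) = 0 := ha
    rw [Ideal.Quotient.eq_zero_iff_mem] at h3
    have h4 := hs'IA' _ h3
    rw [AlgHom.commutes] at h4
    exact h4
  · intro y
    obtain ⟨y, rfl⟩ := Ideal.Quotient.mk_surjective y
    obtain ⟨k, x, hx⟩ := IsLocalization.Away.surj h y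
    refine ⟨s x, ?_⟩
    rw [← hcompat' x, ← hx, map_mul, map_pow]
    have h5 : Ideal.Quotient.mk IA' (algebraMap E A' h) = 1 := by
      rw [← map_one (Ideal.Quotient.mk IA'), Ideal.Quotient.eq]
      have := IA'.neg_mem h1h
      rwa [map_sub, map_one, neg_sub] at this
    rw [h5, one_pow, mul_one]

end Away


/-- A map from a smooth algebra to `A ⧸ I` factors through an etale `A`-algebra with a section
to `A ⧸ I`. -/
theorem exists_etale_section (R S A : Type u) [CommRing R] [CommRing S] [Algebra R S]
    [Algebra.Smooth R S] [CommRing A] [Algebra R A] (I : Ideal A) (σ : S →ₐ[R] A ⧸ I) :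
    ∃ (E : Type u) (_ : CommRing E) (_ : Algebra A E) (_ : Algebra R E)
      (_ : IsScalarTower R A E), Algebra.Etale A E ∧
      ∃ (s : E →ₐ[A] A ⧸ I) (j : S →ₐ[R] E), ∀ x, s (j x) = σ x := by
  obtain ⟨B, _, _, _, _, hsm, ⟨ρ⟩, n, b, bs, hbs⟩ := exists_smooth_retract_basis R S
  haveI := hsm
  haveI : Algebra.Smooth R B := Algebra.Smooth.comp R S B
  letI algPB : Algebra (MvPolynomial (Fin n) R) B := (MvPolynomial.aeval b).toRingHom.toAlgebra
  haveI : IsScalarTower R (MvPolynomial (Fin n) R) B :=
    IsScalarTower.of_algebraMap_eq' (MvPolynomial.aeval b).comp_algebraMap.symm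
  have hX : ∀ i, algebraMap (MvPolynomial (Fin n) R) B (MvPolynomial.X i) = b i :=
    fun i => MvPolynomial.aeval_X b i
  haveI : Algebra.Etale (MvPolynomial (Fin n) R) B := etale_of_basis R B b bs hbs hX
  let σ' : B →ₐ[R] A ⧸ I := σ.comp (ρ.restrictScalars R)
  have hlift : ∀ i, ∃ a : A, Ideal.Quotient.mk I a = σ' (b i) :=
    fun i => Ideal.Quotient.mk_surjective _
  choose a ha using hlift
  letI algPA : Algebra (MvPolynomial (Fin n) R) A := (MvPolynomial.aeval a).toRingHom.toAlgebra
  haveI : IsScalarTower R (MvPolynomial (Fin n) R) A :=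
    IsScalarTower.of_algebraMap_eq' (MvPolynomial.aeval a).comp_algebraMap.symm
  have hXA : ∀ i, algebraMap (MvPolynomial (Fin n) R) A (MvPolynomial.X i) = a i :=
    fun i => MvPolynomial.aeval_X a i
  have hcomm : ∀ f : MvPolynomial (Fin n) R,
      σ' (algebraMap (MvPolynomial (Fin n) R) B f) =
        algebraMap (MvPolynomial (Fin n) R) (A ⧸ I) f := by
    intro f
    have : (σ'.comp (IsScalarTower.toAlgHom R (MvPolynomial (Fin n) R) B)) =
        (IsScalarTower.toAlgHom R (MvPolynomial (Fin n) R) (A ⧸ I)) := by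
      apply MvPolynomial.algHom_ext
      intro i
      simp only [AlgHom.comp_apply, IsScalarTower.coe_toAlgHom', hX]
      rw [← ha i, IsScalarTower.algebraMap_apply (MvPolynomial (Fin n) R) A (A ⧸ I), hXA]
      rfl
    exact AlgHom.congr_fun this f
  let σP : B →ₐ[MvPolynomial (Fin n) R] A ⧸ I := { σ'.toRingHom with commutes' := hcomm }
  let s : A ⊗[MvPolynomial (Fin n) R] B →ₐ[A] A ⧸ I :=
    Algebra.TensorProduct.lift (Algebra.ofId A (A ⧸ I)) σP (fun _ _ => Commute.all _ _)
  let jB : B →ₐ[R] A ⊗[MvPolynomial (Fin n) R] B :=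
    (Algebra.TensorProduct.includeRight : B →ₐ[MvPolynomial (Fin n) R]
      A ⊗[MvPolynomial (Fin n) R] B).restrictScalars R
  refine ⟨A ⊗[MvPolynomial (Fin n) R] B, inferInstance, inferInstance, inferInstance,
    inferInstance, inferInstance, s, jB.comp (IsScalarTower.toAlgHom R S B), ?_⟩
  intro x
  simp only [AlgHom.comp_apply, IsScalarTower.coe_toAlgHom', jB,
    AlgHom.restrictScalars_apply, Algebra.TensorProduct.includeRight_apply, s,
    Algebra.TensorProduct.lift_tmul, map_one, one_mul]
  show σ (ρ (algebraMap S B x)) = σ x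
  rw [AlgHom.commutes]
  rfl

/-- The case of base ring `A`. -/
theorem exists_etale_section' {A B : Type u} [CommRing A] [CommRing B] [Algebra A B]
    [Algebra.Smooth A B] (I : Ideal A) (σ : B →ₐ[A] A ⧸ I) :
    ∃ (E : Type u) (_ : CommRing E) (_ : Algebra A E), Algebra.Etale A E ∧
      ∃ (s : E →ₐ[A] A ⧸ I) (j : B →ₐ[A] E), ∀ x, s (j x) = σ x := by
  obtain ⟨E, instCR, algAE, algRE, tower, het, s, j, hsj⟩ := exists_etale_section A B A I σ
  refine ⟨E, instCR, algAE, het, s,
    @AlgHom.mk A B E _ _ _ _ algAE j.toRingHom (fun a => ?_), hsj⟩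
  have h1 : j (algebraMap A B a) = @algebraMap A E _ _ algRE a := j.commutes a
  have h2 := @IsScalarTower.algebraMap_apply A A E _ _ _ _ algAE algRE tower a
  rw [Algebra.algebraMap_self, RingHom.id_apply] at h2
  exact h1.trans h2

/-- Etale neighbourhood lifting for smooth algebras (S2043). -/
theorem exists_etale_nbhd_lift {A B : Type u} [CommRing A] [CommRing B] [Algebra A B]
    [Algebra.Smooth A B] (I : Ideal A) (σ : B →ₐ[A] A ⧸ I) :
    ∃ (A' : Type u) (_ : CommRing A') (_ : Algebra A A'), Algebra.Etale A A' ∧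
      Function.Bijective (algebraMap (A ⧸ I) (A' ⧸ I.map (algebraMap A A'))) ∧
      ∃ τ : B →ₐ[A] A', ∀ b : B,
        Ideal.Quotient.mk (I.map (algebraMap A A')) (τ b) =
          algebraMap (A ⧸ I) (A' ⧸ I.map (algebraMap A A')) (σ b) := by
  obtain ⟨E, _, _, het, s, j, hsj⟩ := exists_etale_section' I σ
  obtain ⟨h, hsh, hbij, hcompat⟩ := exists_away_bijective A E I s
  haveI : Algebra.Etale E (Localization.Away h) := Algebra.Etale.of_isLocalizationAway h
  refine ⟨Localization.Away h, inferInstance, inferInstance,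
    Algebra.Etale.comp A E (Localization.Away h), hbij,
    (IsScalarTower.toAlgHom A E (Localization.Away h)).comp j, ?_⟩
  intro b
  rw [AlgHom.comp_apply, IsScalarTower.coe_toAlgHom', hcompat, hsj]

end Groth.Agent.Helper7.SymTrick
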